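import Mathlib
import Groth.Agent.Lib.Helper21.CompleteFlat

/-!
# Completion of a free module: null families
-/

open TensorProduct

universe u

namespace Groth.Agent.Lib27.Compl

variable {R : Type u} [CommRing R]

/-- Criterion for injectivity of `f ⊗ R/J`. -/
lemma rTensor_quotient_injective {M M' : Type*} [AddCommGroup M] [Module R M] [AddCommGroup M']
    [Module R M'] (f : M →ₗ[R] M') (J : Ideal R)
    (h : ∀ x, f x ∈ (J • ⊤ : Submodule R M') → x ∈ (J • ⊤ : Submodule R M)) :
    Function.Injective (f.rTensor (R ⧸ J)) := by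
  rw [injective_iff_map_eq_zero]
  intro z hz
  obtain ⟨x, rfl⟩ : ∃ x : M, z = x ⊗ₜ[R] (1 : R ⧸ J) := by
    obtain ⟨q, hq⟩ := (tensorQuotEquivQuotSMul M J).symm.surjective z
    obtain ⟨x, rfl⟩ := Submodule.Quotient.mk_surjective _ q
    exact ⟨x, by rw [← hq, tensorQuotEquivQuotSMul_symm_mk]⟩
  rw [LinearMap.rTensor_tmul] at hz
  have h1 : f x ∈ (J • ⊤ : Submodule R M') := by
    have := congrArg (tensorQuotEquivQuotSMul M' J) hz
    rw [← map_one (Ideal.Quotient.mk J), tensorQuotEquivQuotSMul_tmul_mk, one_smul, map_zero,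
      Submodule.Quotient.mk_eq_zero] at this
    exact this
  have h2 := h x h1
  rw [← tensorQuotEquivQuotSMul_symm_mk, (Submodule.Quotient.mk_eq_zero _).2 h2, map_zero]

/-- A finitely supported function with values in `K` lies in `K • ⊤`. -/
lemma finsupp_mem_smul_top {α : Type*} (K : Ideal R) (v : α →₀ R) (hv : ∀ a, v a ∈ K) :
    v ∈ (K • ⊤ : Submodule R (α →₀ R)) := by
  classical
  rw [← Finsupp.sum_single v]
  apply Submodule.sum_mem
  intro a _
  have : Finsupp.single a (v a) = v a • Finsupp.single a (1 : R) := by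
    rw [Finsupp.smul_single, smul_eq_mul, mul_one]
  rw [this]
  exact Submodule.smul_mem_smul (hv a) trivial

lemma smul_top_ideal (K : Ideal R) : (K • ⊤ : Submodule R R) = K := by
  rw [smul_eq_mul, Ideal.mul_top]

end Groth.Agent.Lib27.Compl
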