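import Mathlib
import Groth.Agent.Lib27.Compl.Null1

/-!
# Completion of a free module: null families (continued)
-/

open TensorProduct

universe u

namespace Groth.Agent.Lib27.Compl

variable {R : Type u} [CommRing R] (I : Ideal R) {α : Type u}

/-- The coordinate map from the completion of the free module to the product. -/
noncomputable def coord (α : Type u) :
    AdicCompletion I (α →₀ R) →ₗ[R] (α → AdicCompletion I R) :=
  LinearMap.pi fun a : α => AdicCompletion.map I (Finsupp.lapply a : (α →₀ R) →ₗ[R] R)

lemma coord_mk_val (f : AdicCompletion.AdicCauchySequence I (α →₀ R)) (a : α) (n : ℕ) :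
    (coord I α (AdicCompletion.mk I _ f) a).val n =
      Submodule.Quotient.mk (p := (I ^ n • ⊤ : Submodule R R)) (f n a) := rfl

lemma coord_injective : Function.Injective (coord I α) := by
  rw [injective_iff_map_eq_zero]
  intro x hx
  induction x using AdicCompletion.induction_on with
  | h f =>
    apply AdicCompletion.ext
    intro n
    rw [AdicCompletion.val_zero_apply]
    change Submodule.Quotient.mk (f n) = 0
    rw [Submodule.Quotient.mk_eq_zero]
    apply finsupp_mem_smul_top
    intro a
    have h1 := congrArg (fun y => (y a).val n) hx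
    simp only [Pi.zero_apply, AdicCompletion.val_zero_apply] at h1
    rw [coord_mk_val, Submodule.Quotient.mk_eq_zero, smul_top_ideal (R := R)] at h1
    exact h1

/-- A family is null if for every `n` all but finitely many members lie in `I ^ n`. -/
def Null (ρ : α → R) : Prop := ∀ n : ℕ, {a | ρ a ∉ I ^ n}.Finite

open scoped Classical in
/-- The truncation of a null family. -/
noncomputable def trunc (ρ : α → R) (h : Null I ρ) (n : ℕ) : α →₀ R :=
  Finsupp.onFinset (h n).toFinset (fun a => if ρ a ∈ I ^ n then 0 else ρ a) (by
    intro a ha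
    rw [Set.Finite.mem_toFinset, Set.mem_ofPred_eq]
    intro h'
    exact ha (if_pos h'))

open scoped Classical in
lemma trunc_apply (ρ : α → R) (h : Null I ρ) (n : ℕ) (a : α) :
    trunc I ρ h n a = if ρ a ∈ I ^ n then 0 else ρ a := rfl

lemma sub_trunc_mem (ρ : α → R) (h : Null I ρ) (n : ℕ) (a : α) :
    ρ a - trunc I ρ h n a ∈ I ^ n := by
  classical
  rw [trunc_apply]
  split_ifs with h1
  · rwa [sub_zero]
  · rw [sub_self]
    exact zero_mem _

/-- The element of the completion defined by a null family. -/
noncomputable def ofNull (ρ : α → R) (h : Null I ρ) : AdicCompletion I (α →₀ R) :=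
  AdicCompletion.mk I _ (AdicCompletion.AdicCauchySequence.mk I _ (trunc I ρ h) (by
    intro n
    rw [SModEq.sub_mem]
    apply finsupp_mem_smul_top
    intro a
    have h1 := sub_trunc_mem I ρ h n a
    have h2 : ρ a - trunc I ρ h (n + 1) a ∈ I ^ n :=
      Ideal.pow_le_pow_right (Nat.le_succ n) (sub_trunc_mem I ρ h (n + 1) a)
    have : (trunc I ρ h n - trunc I ρ h (n + 1)) a =
        (ρ a - trunc I ρ h (n + 1) a) - (ρ a - trunc I ρ h n a) := by
      rw [Finsupp.sub_apply]
      ring
    rw [this]
    exact sub_mem h2 h1))

lemma coord_ofNull (ρ : α → R) (h : Null I ρ) (a : α) :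
    coord I α (ofNull I ρ h) a = AdicCompletion.of I R (ρ a) := by
  apply AdicCompletion.ext
  intro n
  rw [AdicCompletion.of_apply, Submodule.mkQ_apply]
  change Submodule.Quotient.mk (trunc I ρ h n a) = _
  rw [eq_comm, Submodule.Quotient.eq, smul_top_ideal (R := R)]
  exact sub_trunc_mem I ρ h n a

/-- The coordinates of an element of the completion form a null family. -/
lemma null_of_coord (x : AdicCompletion I (α →₀ R)) (ρ : α → R)
    (hρ : ∀ a, coord I α x a = AdicCompletion.of I R (ρ a)) : Null I ρ := by
  classical
  induction x using AdicCompletion.induction_on with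
  | h f =>
    intro n
    apply Set.Finite.subset (f n).support.finite_toSet
    intro a ha
    rw [Set.mem_ofPred_eq] at ha
    rw [Finset.mem_coe, Finsupp.mem_support_iff]
    intro h0
    apply ha
    have h1 : (coord I α (AdicCompletion.mk I _ f) a).val n =
        (AdicCompletion.of I R (ρ a)).val n := by rw [hρ a]
    rw [coord_mk_val, AdicCompletion.of_apply, Submodule.mkQ_apply, h0, eq_comm,
      Submodule.Quotient.mk_zero, Submodule.Quotient.mk_eq_zero, smul_top_ideal (R := R)] at h1
    exact h1

end Groth.Agent.Lib27.Compl
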