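import Mathlib
import Groth.Agent.Lib27.Compl.Null2

/-!
# Completion of a free module: the Artin-Rees decomposition
-/

open TensorProduct

universe u

namespace Groth.Agent.Lib27.Compl

variable {R : Type u} [CommRing R] (I : Ideal R) {α : Type u}

lemma map_mem_smul_top {M M' : Type*} [AddCommGroup M] [Module R M] [AddCommGroup M'] [Module R M']
    (g : M →ₗ[R] M') (J : Ideal R) {y : M} (hy : y ∈ (J • ⊤ : Submodule R M)) :
    g y ∈ (J • ⊤ : Submodule R M') := by
  have h1 : Submodule.map g (J • ⊤ : Submodule R M) ≤ (J • ⊤ : Submodule R M') := by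
    rw [Submodule.map_smul'']
    exact Submodule.smul_mono le_rfl le_top
  exact h1 ⟨y, hy, rfl⟩

theorem exists_decomp [IsNoetherianRing R] [IsHausdorff I R] {m : ℕ} (j : Fin m → R)
    (ρ : α → R) (hρ : Null I ρ) (hJ : ∀ a, ρ a ∈ Ideal.span (Set.range j)) :
    ∃ s : Fin m → α → R, (∀ k, Null I (s k)) ∧ ∀ a, ρ a = ∑ k, j k * s k a := by
  classical
  obtain ⟨c, hc⟩ := Groth.Agent.Lib.Helper21.exists_pow_smul_top_inf_le (M := R) I
    (Ideal.span (Set.range j))
  have key : ∀ a, ∃ z : Fin m → R, ρ a = ∑ k, j k * z k ∧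
      ∀ n, ρ a ∈ I ^ n → ∀ k, z k ∈ I ^ (n - c) := by
    intro a
    by_cases h0 : ρ a = 0
    · refine ⟨0, by simp [h0], fun n _ k => zero_mem _⟩
    have hex : ∃ N, ρ a ∉ I ^ N := by
      by_contra hcon
      push Not at hcon
      apply h0
      apply IsHausdorff.haus (inferInstance : IsHausdorff I R)
      intro n
      rw [SModEq.zero, smul_top_ideal]
      exact hcon n
    have hN := Nat.find_spec hex
    have hNmin := fun n (hn : n < Nat.find hex) => Nat.find_min hex hn
    set N := Nat.find hex with hNdef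
    have hN0 : N ≠ 0 := by
      intro h
      rw [h, pow_zero, Ideal.one_eq_top] at hN
      exact hN trivial
    obtain ⟨N', hN'⟩ := Nat.exists_eq_succ_of_ne_zero hN0
    have hmemN' : ρ a ∈ I ^ N' := by
      have := hNmin N' (by rw [hN']; exact Nat.lt_succ_self _)
      exact not_not.1 this
    have h1 : ρ a ∈ (I ^ N' • ⊤ ⊓ (Ideal.span (Set.range j)) : Submodule R R) :=
      ⟨by rw [smul_top_ideal]; exact hmemN', hJ a⟩
    have h2 := hc N' h1
    have h3 : ρ a ∈ Ideal.span (Set.range j) • (I ^ (N' - c) : Submodule R R) := by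
      rw [smul_eq_mul, mul_comm] at h2
      exact h2
    obtain ⟨z, hz, hsum⟩ :=
      Groth.Agent.Lib.Helper21.exists_sum_smul_of_mem_span_range_smul j _ _ h3
    refine ⟨z, by simpa [smul_eq_mul] using hsum, ?_⟩
    intro n hn k
    have hnN' : n ≤ N' := by
      by_contra hlt
      push Not at hlt
      have : N ≤ n := by rw [hN']; exact hlt
      exact hN (Ideal.pow_le_pow_right this hn)
    exact Ideal.pow_le_pow_right (Nat.sub_le_sub_right hnN' c) (hz k)
  choose z hz1 hz2 using key
  refine ⟨fun k a => z a k, ?_, hz1⟩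
  intro k n
  apply Set.Finite.subset (hρ (n + c))
  intro a ha
  rw [Set.mem_ofPred_eq] at ha ⊢
  intro h
  apply ha
  have := hz2 a (n + c) h k
  rwa [Nat.add_sub_cancel] at this

theorem mem_smul_top_of_coord_mem [IsNoetherianRing R] [IsAdicComplete I R] (J : Ideal R)
    (x : AdicCompletion I (α →₀ R))
    (hx : coord I α x ∈ (J • ⊤ : Submodule R (α → AdicCompletion I R))) :
    x ∈ (J • ⊤ : Submodule R (AdicCompletion I (α →₀ R))) := by
  classical
  obtain ⟨m, j, hj⟩ := Submodule.fg_iff_exists_fin_generating_family.1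
    (IsNoetherian.noetherian J)
  let e := AdicCompletion.ofLinearEquiv I R
  let ρ : α → R := fun a => e.symm (coord I α x a)
  have hρ : ∀ a, coord I α x a = AdicCompletion.of I R (ρ a) := fun a =>
    (AdicCompletion.of_ofLinearEquiv_symm I _).symm
  have hρJ : ∀ a, ρ a ∈ Ideal.span (Set.range j) := by
    intro a
    have h1 : coord I α x a ∈ (J • ⊤ : Submodule R (AdicCompletion I R)) :=
      map_mem_smul_top (LinearMap.proj a) J hx
    have h2 := map_mem_smul_top e.symm.toLinearMap J h1
    rw [smul_top_ideal] at h2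
    change ρ a ∈ Submodule.span R (Set.range j)
    rw [hj]
    exact h2
  have hnull : Null I ρ := null_of_coord I x ρ hρ
  obtain ⟨s, hs, hsum⟩ := exists_decomp I j ρ hnull hρJ
  have hxeq : x = ∑ k, j k • ofNull I (s k) (hs k) := by
    apply coord_injective I
    funext a
    rw [map_sum, Finset.sum_apply, hρ a, hsum a, map_sum]
    refine Finset.sum_congr rfl fun k _ => ?_
    rw [map_smul, Pi.smul_apply, coord_ofNull, ← smul_eq_mul, map_smul]
  rw [hxeq]
  refine Submodule.sum_mem _ fun k _ => Submodule.smul_mem_smul ?_ trivial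
  rw [← hj]
  exact Submodule.subset_span ⟨k, rfl⟩

end Groth.Agent.Lib27.Compl
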