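import Mathlib
import Groth.Agent.Lib27.Compl.Null3
import Groth.Agent.Lib27.TopMod.LeftInv
import Groth.Agent.S6305

/-!
# Splitting surjections onto a flat module with projective reduction
-/

open TensorProduct

universe u

namespace Groth.Agent.Lib27.Compl

variable {R : Type u} [CommRing R] (I : Ideal R)

/-- If `W ⊆ E` with `E/W` flat and `W` killed by `I` then `W ∩ IE = 0`. -/
lemma inf_smul_top_eq_bot_of_flat {E M : Type u} [AddCommGroup E] [Module R E] [AddCommGroup M]
    [Module R M] [Module.Flat R M] (p : E →ₗ[R] M) (hp : Function.Surjective p)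
    (hker : ∀ w ∈ LinearMap.ker p, ∀ i ∈ I, i • w = 0) (x : E) (hx1 : x ∈ LinearMap.ker p)
    (hx2 : x ∈ (I • ⊤ : Submodule R E)) : x = 0 := by
  set W := LinearMap.ker p with hW
  have huniv : CAlgX.UniversallyInjective R W.subtype :=
    (Groth.Agent.S6305.result M).1 inferInstance W E W.subtype p W.subtype_injective
      (LinearMap.exact_subtype_ker_map p) hp
  have hinj := huniv (R ⧸ I)
  have h1 : (W.subtype.rTensor (R ⧸ I)) ((⟨x, hx1⟩ : W) ⊗ₜ[R] (1 : R ⧸ I)) = 0 := by
    rw [LinearMap.rTensor_tmul, Submodule.subtype_apply, ← tensorQuotEquivQuotSMul_symm_mk,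
      (Submodule.Quotient.mk_eq_zero _).2 hx2, map_zero]
  have h2 : ((⟨x, hx1⟩ : W) ⊗ₜ[R] (1 : R ⧸ I)) = 0 := hinj (by rw [h1, map_zero])
  have h3 : (⟨x, hx1⟩ : W) ∈ (I • ⊤ : Submodule R W) := by
    have := congrArg (tensorQuotEquivQuotSMul W I) h2
    rw [← map_one (Ideal.Quotient.mk I), tensorQuotEquivQuotSMul_tmul_mk, one_smul, map_zero,
      Submodule.Quotient.mk_eq_zero] at this
    exact this
  have h4 : (I • ⊤ : Submodule R W) = ⊥ := by
    rw [eq_bot_iff]
    intro y hy
    refine Submodule.smul_induction_on hy (fun i hi w _ => ?_) (fun y z hy hz => add_mem hy hz)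
    rw [Submodule.mem_bot]
    apply Subtype.ext
    exact hker w.1 w.2 i hi
  rw [h4, Submodule.mem_bot] at h3
  exact congrArg Subtype.val h3

/-- A surjection onto a flat module with projective reduction mod `I`, whose kernel is killed by `I`,
splits. -/
theorem exists_section_of_flat_of_projective_quotient {E M : Type u} [AddCommGroup E] [Module R E]
    [AddCommGroup M] [Module R M] [Module.Flat R M]
    [Module.Projective (R ⧸ I) (M ⧸ (I • ⊤ : Submodule R M))]
    (p : E →ₗ[R] M) (hp : Function.Surjective p)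
    (hker : ∀ w ∈ LinearMap.ker p, ∀ i ∈ I, i • w = 0) :
    ∃ σ : M →ₗ[R] E, p ∘ₗ σ = LinearMap.id := by
  -- the reduction of `p`
  let pb : E ⧸ (I • ⊤ : Submodule R E) →ₗ[R] M ⧸ (I • ⊤ : Submodule R M) :=
    Submodule.mapQ _ _ p (fun x hx => map_mem_smul_top p I hx)
  have hpb : Function.Surjective pb := by
    intro z
    obtain ⟨m, rfl⟩ := Submodule.Quotient.mk_surjective _ z
    obtain ⟨e, rfl⟩ := hp m
    exact ⟨Submodule.Quotient.mk e, rfl⟩
  obtain ⟨τ, hτ⟩ := Groth.Agent.Lib27.TopMod.exists_lift_of_projective_quotient I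
    (Module.isTorsionBySet_quotient_ideal_smul E I) pb hpb (I • ⊤ : Submodule R M).mkQ
  -- the map `E → E/IE × M`
  let Φ : E →ₗ[R] (E ⧸ (I • ⊤ : Submodule R E)) × M := (I • ⊤ : Submodule R E).mkQ.prod p
  have hΦinj : Function.Injective Φ := by
    rw [injective_iff_map_eq_zero]
    intro x hx
    have h1 : (I • ⊤ : Submodule R E).mkQ x = 0 := congrArg Prod.fst hx
    have h2 : p x = 0 := congrArg Prod.snd hx
    exact inf_smul_top_eq_bot_of_flat I p hp hker x h2
      ((Submodule.Quotient.mk_eq_zero _).1 h1)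
  let Ψ : M →ₗ[R] (E ⧸ (I • ⊤ : Submodule R E)) × M := τ.prod LinearMap.id
  have hΨ : ∀ m, Ψ m ∈ LinearMap.range Φ := by
    intro m
    obtain ⟨e₀, he₀⟩ := Submodule.Quotient.mk_surjective _ (τ m)
    have h1 : pb (τ m) = Submodule.Quotient.mk m := LinearMap.congr_fun hτ m
    rw [← he₀] at h1
    have h2 : p e₀ - m ∈ (I • ⊤ : Submodule R M) := by
      rw [← Submodule.Quotient.eq]
      exact h1
    have h3 : (I • ⊤ : Submodule R M) ≤ Submodule.map p (I • ⊤ : Submodule R E) := by
      rw [Submodule.map_smul'', Submodule.map_top, LinearMap.range_eq_top.2 hp]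
    obtain ⟨e₁, he₁, he₁p⟩ := h3 h2
    refine ⟨e₀ - e₁, ?_⟩
    apply Prod.ext
    · change (I • ⊤ : Submodule R E).mkQ (e₀ - e₁) = τ m
      rw [map_sub, Submodule.mkQ_apply, Submodule.mkQ_apply,
        (Submodule.Quotient.mk_eq_zero _).2 he₁, sub_zero]
      exact he₀
    · change p (e₀ - e₁) = m
      rw [map_sub, he₁p]
      abel
  let σ : M →ₗ[R] E := (LinearEquiv.ofInjective Φ hΦinj).symm.toLinearMap ∘ₗ
    Ψ.codRestrict (LinearMap.range Φ) hΨ
  refine ⟨σ, ?_⟩
  ext m
  have h1 : Φ (σ m) = Ψ m := by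
    have := (LinearEquiv.ofInjective Φ hΦinj).apply_symm_apply (Ψ.codRestrict (LinearMap.range Φ) hΨ m)
    exact congrArg Subtype.val this
  exact congrArg Prod.snd h1

end Groth.Agent.Lib27.Compl
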