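import Mathlib
import Groth.Agent.Lib27.Compl.Section1

/-!
# The tower of sections
-/

open TensorProduct

universe u

namespace Groth.Agent.Lib27.Compl

variable {R : Type u} [CommRing R] (I : Ideal R)

section

variable {P M : Type u} [AddCommGroup P] [Module R P] [AddCommGroup M] [Module R M]

/-- The reduction of `g` modulo `I ^ n`. -/
noncomputable def red (g : P →ₗ[R] M) (n : ℕ) :
    P ⧸ (I ^ n • ⊤ : Submodule R P) →ₗ[R] M ⧸ (I ^ n • ⊤ : Submodule R M) :=
  Submodule.mapQ _ _ g (fun _ hx => map_mem_smul_top g (I ^ n) hx)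

lemma red_mk (g : P →ₗ[R] M) (n : ℕ) (x : P) :
    red I g n (Submodule.Quotient.mk x) = Submodule.Quotient.mk (g x) := rfl

lemma eq_zero_of_mem_smul_top_quotient (n : ℕ) (z : P ⧸ (I ^ n • ⊤ : Submodule R P))
    (hz : z ∈ (I ^ n • ⊤ : Submodule R (P ⧸ (I ^ n • ⊤ : Submodule R P)))) : z = 0 := by
  refine Submodule.smul_induction_on hz (fun i hi w _ => ?_) (fun y z hy hz => by rw [hy, hz, add_zero])
  obtain ⟨p, rfl⟩ := Submodule.Quotient.mk_surjective _ w
  rw [← Submodule.Quotient.mk_smul, Submodule.Quotient.mk_eq_zero]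
  exact Submodule.smul_mem_smul hi trivial

theorem exists_step [Module.Flat R M] [Module.Projective (R ⧸ I) (M ⧸ (I • ⊤ : Submodule R M))]
    (g : P →ₗ[R] M) (hg : Function.Surjective g) (n : ℕ)
    (s : M →ₗ[R] P ⧸ (I ^ n • ⊤ : Submodule R P))
    (hs : ∀ m, red I g n (s m) = Submodule.Quotient.mk m) :
    ∃ s' : M →ₗ[R] P ⧸ (I ^ (n + 1) • ⊤ : Submodule R P),
      (∀ m, red I g (n + 1) (s' m) = Submodule.Quotient.mk m) ∧
      ∀ m, Submodule.factorPow I P (Nat.le_succ n) (s' m) = s m := by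
  let A : (P ⧸ (I ^ (n + 1) • ⊤ : Submodule R P)) × M →ₗ[R]
      (P ⧸ (I ^ n • ⊤ : Submodule R P)) × (M ⧸ (I ^ (n + 1) • ⊤ : Submodule R M)) :=
    ((Submodule.factorPow I P (Nat.le_succ n)) ∘ₗ LinearMap.fst R _ _ -
        s ∘ₗ LinearMap.snd R _ _).prod
      (red I g (n + 1) ∘ₗ LinearMap.fst R _ _ -
        (I ^ (n + 1) • ⊤ : Submodule R M).mkQ ∘ₗ LinearMap.snd R _ _)
  let E : Submodule R ((P ⧸ (I ^ (n + 1) • ⊤ : Submodule R P)) × M) := LinearMap.ker A
  have hE : ∀ w : (P ⧸ (I ^ (n + 1) • ⊤ : Submodule R P)) × M, w ∈ E ↔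
      Submodule.factorPow I P (Nat.le_succ n) w.1 = s w.2 ∧
        red I g (n + 1) w.1 = Submodule.Quotient.mk w.2 := by
    intro w
    change A w = 0 ↔ _
    have hA1 : (A w).1 = Submodule.factorPow I P (Nat.le_succ n) w.1 - s w.2 := rfl
    have hA2 : (A w).2 = red I g (n + 1) w.1 - Submodule.Quotient.mk w.2 := rfl
    constructor
    · intro h
      rw [h] at hA1 hA2
      exact ⟨(sub_eq_zero.1 hA1.symm), (sub_eq_zero.1 hA2.symm)⟩
    · rintro ⟨h1, h2⟩
      apply Prod.ext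
      · rw [hA1, h1, sub_self]; rfl
      · rw [hA2, h2, sub_self]; rfl
  let p : E →ₗ[R] M := LinearMap.snd R _ _ ∘ₗ E.subtype
  have hp : Function.Surjective p := by
    intro m
    obtain ⟨p₀, hp₀⟩ := Submodule.Quotient.mk_surjective _ (s m)
    have h1 := hs m
    rw [← hp₀, red_mk, Submodule.Quotient.eq] at h1
    have h3 : (I ^ n • ⊤ : Submodule R M) ≤ Submodule.map g (I ^ n • ⊤ : Submodule R P) := by
      rw [Submodule.map_smul'', Submodule.map_top, LinearMap.range_eq_top.2 hg]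
    obtain ⟨p₁, hp₁, hp₁g⟩ := h3 h1
    refine ⟨⟨(Submodule.Quotient.mk (p₀ - p₁), m), ?_⟩, rfl⟩
    rw [hE]
    constructor
    · change Submodule.Quotient.mk (p₀ - p₁) = s m
      rw [Submodule.Quotient.mk_sub, (Submodule.Quotient.mk_eq_zero _).2 hp₁, sub_zero, hp₀]
    · change Submodule.Quotient.mk (g (p₀ - p₁)) = Submodule.Quotient.mk m
      rw [map_sub, hp₁g]
      congr 1
      abel
  have hker : ∀ w ∈ LinearMap.ker p, ∀ i ∈ I, i • w = 0 := by
    intro w hw i hi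
    have hw2 : w.1.2 = 0 := hw
    have hw1 := ((hE w.1).1 w.2).1
    rw [hw2, map_zero] at hw1
    apply Subtype.ext
    apply Prod.ext
    · change i • w.1.1 = 0
      obtain ⟨p', hp'⟩ := Submodule.Quotient.mk_surjective _ w.1.1
      rw [← hp'] at hw1 ⊢
      have h1 : p' ∈ (I ^ n • ⊤ : Submodule R P) := (Submodule.Quotient.mk_eq_zero _).1 hw1
      rw [← Submodule.Quotient.mk_smul, Submodule.Quotient.mk_eq_zero, pow_succ', mul_smul]
      exact Submodule.smul_mem_smul hi h1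
    · change i • w.1.2 = 0
      rw [hw2, smul_zero]
  obtain ⟨σ, hσ⟩ := exists_section_of_flat_of_projective_quotient I p hp hker
  have hσ' : ∀ m, (σ m).1.2 = m := fun m => LinearMap.congr_fun hσ m
  refine ⟨LinearMap.fst R _ _ ∘ₗ E.subtype ∘ₗ σ, ?_, ?_⟩
  · intro m
    have := ((hE (σ m).1).1 (σ m).2).2
    rw [hσ'] at this
    exact this
  · intro m
    have := ((hE (σ m).1).1 (σ m).2).1
    rw [hσ'] at this
    exact this

end

end Groth.Agent.Lib27.Compl
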