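import Mathlib
import Groth.Agent.Lib27.Compl.Section2

/-!
# The section on completions
-/

open TensorProduct

universe u

namespace Groth.Agent.Lib27.Compl

variable {R : Type u} [CommRing R] (I : Ideal R)

variable {P M : Type u} [AddCommGroup P] [Module R P] [AddCommGroup M] [Module R M]

/-- Existence of the tower of sections. -/
theorem exists_tower [Module.Flat R M] [Module.Projective (R ⧸ I) (M ⧸ (I • ⊤ : Submodule R M))]
    (g : P →ₗ[R] M) (hg : Function.Surjective g) :
    ∃ t : ∀ n, M →ₗ[R] P ⧸ (I ^ n • ⊤ : Submodule R P),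
      (∀ n m, red I g n (t n m) = Submodule.Quotient.mk m) ∧
      ∀ n m, Submodule.factorPow I P (Nat.le_succ n) (t (n + 1) m) = t n m := by
  classical
  let T : ℕ → Type u := fun n =>
    {s : M →ₗ[R] P ⧸ (I ^ n • ⊤ : Submodule R P) // ∀ m, red I g n (s m) = Submodule.Quotient.mk m}
  have h0 : ∀ m : M, red I g 0 ((0 : M →ₗ[R] P ⧸ (I ^ 0 • ⊤ : Submodule R P)) m) =
      Submodule.Quotient.mk m := by
    intro m
    rw [LinearMap.zero_apply, map_zero, eq_comm, Submodule.Quotient.mk_eq_zero, pow_zero,
      Ideal.one_eq_top, Submodule.top_smul]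
    trivial
  let t : ∀ n, T n := fun n => Nat.rec (motive := T) ⟨0, h0⟩
    (fun n s => ⟨Classical.choose (exists_step I g hg n s.1 s.2),
      (Classical.choose_spec (exists_step I g hg n s.1 s.2)).1⟩) n
  refine ⟨fun n => (t n).1, fun n => (t n).2, fun n => ?_⟩
  exact (Classical.choose_spec (exists_step I g hg n (t n).1 (t n).2)).2

lemma factorPow_self (n : ℕ) (z : P ⧸ (I ^ n • ⊤ : Submodule R P)) :
    Submodule.factorPow I P (le_refl n) z = z := by
  obtain ⟨p, rfl⟩ := Submodule.Quotient.mk_surjective _ z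
  rfl

lemma tower_compat (t : ∀ n, M →ₗ[R] P ⧸ (I ^ n • ⊤ : Submodule R P))
    (ht : ∀ n m, Submodule.factorPow I P (Nat.le_succ n) (t (n + 1) m) = t n m)
    {k n : ℕ} (hkn : k ≤ n) (m : M) :
    Submodule.factorPow I P hkn (t n m) = t k m := by
  induction n, hkn using Nat.le_induction with
  | base => exact factorPow_self I k _
  | succ n hkn ih =>
    rw [← ih, ← ht n m]
    exact (Submodule.factor_comp_apply _ _ _).symm

/-- The section on completions, with its levelwise description. -/
theorem exists_section_adicCompletion_aux [Module.Flat R M]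
    [Module.Projective (R ⧸ I) (M ⧸ (I • ⊤ : Submodule R M))]
    (g : P →ₗ[R] M) (hg : Function.Surjective g) :
    ∃ s : AdicCompletion I M →ₗ[R] AdicCompletion I P,
      (∀ x, AdicCompletion.map I g (s x) = x) ∧
      ∃ sbar : ∀ n, M ⧸ (I ^ n • ⊤ : Submodule R M) →ₗ[R] P ⧸ (I ^ n • ⊤ : Submodule R P),
        ∀ x n, (s x).val n = sbar n (x.val n) := by
  obtain ⟨t, ht1, ht2⟩ := exists_tower I g hg
  have hle : ∀ n, (I ^ n • ⊤ : Submodule R M) ≤ LinearMap.ker (t n) := by
    intro n x hx
    rw [LinearMap.mem_ker]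
    exact eq_zero_of_mem_smul_top_quotient I n _ (map_mem_smul_top (t n) (I ^ n) hx)
  let sbar : ∀ n, M ⧸ (I ^ n • ⊤ : Submodule R M) →ₗ[R] P ⧸ (I ^ n • ⊤ : Submodule R P) :=
    fun n => Submodule.liftQ _ (t n) (hle n)
  have hsbar : ∀ n m, sbar n (Submodule.Quotient.mk m) = t n m := fun n m => rfl
  let f : ∀ n, AdicCompletion I M →ₗ[R] P ⧸ (I ^ n • ⊤ : Submodule R P) :=
    fun n => sbar n ∘ₗ AdicCompletion.eval I M n
  have hf : ∀ {k n : ℕ} (hle : k ≤ n), Submodule.factorPow I P hle ∘ₗ f n = f k := by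
    intro k n hkn
    apply LinearMap.ext
    intro x
    induction x using AdicCompletion.induction_on with
    | h c =>
      simp only [f, LinearMap.comp_apply, AdicCompletion.eval_apply]
      change Submodule.factorPow I P hkn (sbar n (Submodule.Quotient.mk (c n))) =
        sbar k (Submodule.Quotient.mk (c k))
      rw [hsbar, hsbar, tower_compat I t ht2 hkn]
      have h1 : c n - c k ∈ (I ^ k • ⊤ : Submodule R M) := by
        have := c.property hkn
        rw [SModEq.sub_mem] at this
        rw [← neg_sub]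
        exact neg_mem this
      have h2 := hle k h1
      rw [LinearMap.mem_ker, map_sub, sub_eq_zero] at h2
      exact h2
  refine ⟨AdicCompletion.lift I f hf, ?_,
    sbar, fun x n => AdicCompletion.eval_lift_apply I f hf n x⟩
  intro x
  apply AdicCompletion.ext
  intro n
  rw [AdicCompletion.map_val_apply]
  have h1 : (AdicCompletion.lift I f hf x).val n = f n x := AdicCompletion.eval_lift_apply I f hf n x
  rw [h1]
  obtain ⟨m, hm⟩ := Submodule.Quotient.mk_surjective _ (x.val n)
  have h2 : f n x = t n m := by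
    change sbar n (x.val n) = t n m
    rw [← hm, hsbar]
  rw [h2, ← hm]
  obtain ⟨b, hb⟩ := Submodule.Quotient.mk_surjective _ (t n m)
  have h3 := ht1 n m
  rw [← hb] at h3 ⊢
  exact h3

/-- The section on completions. -/
theorem exists_section_adicCompletion [Module.Flat R M]
    [Module.Projective (R ⧸ I) (M ⧸ (I • ⊤ : Submodule R M))]
    (g : P →ₗ[R] M) (hg : Function.Surjective g) :
    ∃ s : AdicCompletion I M →ₗ[R] AdicCompletion I P,
      ∀ x, AdicCompletion.map I g (s x) = x := by
  obtain ⟨s, hs, -⟩ := exists_section_adicCompletion_aux I g hg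
  exact ⟨s, hs⟩

/-- The section on completions, linear over the completed ring. -/
theorem exists_section_adicCompletion' [Module.Flat R M]
    [Module.Projective (R ⧸ I) (M ⧸ (I • ⊤ : Submodule R M))]
    (g : P →ₗ[R] M) (hg : Function.Surjective g) :
    ∃ s : AdicCompletion I M →ₗ[AdicCompletion I R] AdicCompletion I P,
      AdicCompletion.map I g ∘ₗ s = LinearMap.id := by
  obtain ⟨s, hs, sbar, hsbar⟩ := exists_section_adicCompletion_aux I g hg
  refine ⟨{ toFun := s, map_add' := s.map_add, map_smul' := ?_ }, ?_⟩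
  · intro r x
    apply AdicCompletion.ext
    intro n
    rw [RingHom.id_apply, AdicCompletion.smul_eval, hsbar, hsbar, AdicCompletion.smul_eval]
    obtain ⟨r₀, hr₀⟩ := Ideal.Quotient.mk_surjective (r.val n)
    obtain ⟨x₀, hx₀⟩ := Submodule.Quotient.mk_surjective _ (x.val n)
    obtain ⟨y₀, hy₀⟩ := Submodule.Quotient.mk_surjective _ (sbar n (x.val n))
    rw [← hr₀, ← hy₀, ← hx₀]
    change sbar n (r₀ • Submodule.Quotient.mk x₀) = r₀ • Submodule.Quotient.mk y₀
    rw [map_smul, hx₀, hy₀]
  · apply LinearMap.ext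
    intro x
    exact hs x

end Groth.Agent.Lib27.Compl
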